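import Groth.Agent.L02.NumDim.Lower
import Groth.Agent.L16.SecComp.Smooth
import Groth.Agent.L22.Nef.Bridge
import Groth.Agent.L22.Inter.Fga
import Groth.Prelude.Def_Pic13
import Groth.Prelude.Def_FGA

/-!
Intersection numbers with the inverse module against subvarieties.
-/

set_option autoImplicit false
set_option backward.isDefEq.respectTransparency false
set_option linter.style.haveILetI false
set_option linter.unusedSectionVars false

universe u

open CategoryTheory CategoryTheory.Limits AlgebraicGeometry TopologicalSpace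

noncomputable section

namespace Groth.L02.NumDim

open Groth.L22.Inter Groth.L22.Nef Groth.L22.Big Groth.L03.Euler Groth.L16

variable (k : Type u) [Field k] {X : Scheme.{u}} [X.Over (Spec (CommRingCat.of k))]
  [IsProper (X ↘ Spec (CommRingCat.of k))]

/-- Vanishing of `(L^m·V)` for all `V` in terms of points. -/
theorem forall_intNum_zero_iff {n : ℕ} (hn : topologicalKrullDim X ≤ (n : ℕ)) {L L' : X.Modules}
    (hL : PicF.IsInvertible L) (hinv : Nonempty (CohB1.tensorMod L' L ≅ Coh.structureModule X)) (m : ℕ) :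
    (∀ (V : Scheme.{u}) (i : V ⟶ X) [IsClosedImmersion i], IsIntegral V → topologicalKrullDim V = (m : ℕ) →
      FGA.intNum k X n (fun _ : Fin m => L') ((Scheme.Modules.pushforward i).obj (Coh.structureModule V)) = 0) ↔
    ∀ y : X, topologicalKrullDim (closure ({y} : Set X)) = (m : ℕ) →
      altT k (fun _ : Fin m => L) (ClSub.quotMod (pt y)) = 0 := by
  haveI := Groth.L21.RR.isNoetherian_of_proper (X := X) k
  have hL' : PicF.IsInvertible L' := Groth.L19.InvOfTensor.isInvertible hinv.some
  have key : ∀ (V : Scheme.{u}) (i : V ⟶ X) [IsClosedImmersion i] [IsIntegral V], topologicalKrullDim V = (m : ℕ) →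
      (FGA.intNum k X n (fun _ : Fin m => L') ((Scheme.Modules.pushforward i).obj (Coh.structureModule V)) : ℚ) =
        altT k (fun _ : Fin m => L) (ClSub.quotMod (pt (i (genericPoint V)))) := fun V i _ _ hV => by
    haveI : IsLocallyNoetherian V := LocallyOfFiniteType.isLocallyNoetherian i
    have hc : Coh.IsCoh ((Coh.push i).obj (Coh.structureModule V)) :=
      CohClosedPush.isCoh_push i CohClosedPush.isCoh_structure
    have hs : CohB1.support ((Coh.push i).obj (Coh.structureModule V)) ⊆ closure {i (genericPoint V)} :=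
      (CohClosedPush.support_push_subset i _).trans (range_eq_closure i).le
    rw [intNum_eq k hn]
    change (-1 : ℚ) ^ m * altT k (fun _ : Fin m => L') ((Coh.push i).obj (Coh.structureModule V)) = _
    rw [altT_inv_all k (fun _ => hL) (fun _ => hL') (fun _ => hinv) hc
      ((topologicalKrullDim_set_mono hs).trans ((dim_closure_image i).trans hV).le),
      ← mul_assoc, ← mul_pow, neg_one_mul, neg_neg, one_pow, one_mul,
      altT_eq_len k (fun _ => hL) ((dim_closure_image i).trans hV) hc hs, CohClosedPush.len_push_structure i]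
    simp
  refine ⟨fun h y hy => ?_, fun h V i _ hV hd => ?_⟩
  · haveI := isIntegral_pt y
    have hd : topologicalKrullDim (pt y).subscheme = (m : ℕ) := by
      rw [← dim_closure_image (pt y).subschemeι, genericPoint_pt, hy]
    have h1 := key _ (pt y).subschemeι hd
    rw [h _ (pt y).subschemeι inferInstance hd, genericPoint_pt, Int.cast_zero] at h1
    exact h1.symm
  · haveI := hV
    have h1 := key V i hd
    rw [h _ ((dim_closure_image i).trans hd)] at h1
    exact_mod_cast h1

include k in
/-- No subvariety of dimension zero has zero intersection number. -/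
theorem one_le_of_forall [Nonempty X] {L : X.Modules} {m : ℕ}
    (h : ∀ y : X, topologicalKrullDim (closure ({y} : Set X)) = (m : ℕ) →
      altT k (fun _ : Fin m => L) (ClSub.quotMod (pt y)) = 0) : 1 ≤ m := by
  haveI := Groth.L21.RR.isNoetherian_of_proper (X := X) k
  by_contra hm
  obtain rfl : m = 0 := by omega
  haveI : CompactSpace X := QuasiCompact.compactSpace_of_compactSpace (X ↘ Spec (CommRingCat.of k))
  obtain ⟨x, -, hx⟩ := IsClosed.exists_closed_singleton isClosed_univ (Set.univ_nonempty (α := X))
  have hd : topologicalKrullDim (closure ({x} : Set X)) = (0 : ℕ) := by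
    rw [hx.closure_eq]
    haveI : DiscreteTopology ({x} : Set X) := Subsingleton.discreteTopology
    refine le_antisymm ?_ ?_
    · exact (topologicalKrullDim_zero_of_discreteTopology ({x} : Set X)).trans (le_of_eq rfl)
    · exact le_of_le_of_eq (zero_le_topologicalKrullDim (Set.singleton_nonempty x)) rfl
  have h1 := h x hd
  rw [altT_zero_eq] at h1
  exact (euler_point_pos k hd).ne' (by exact_mod_cast h1)

/-- The growth statement contradicts the bound. -/
theorem not_growth_of_le {m : ℕ} (hm : 1 ≤ m) {f : ℕ → ℕ} {C : ℕ} (hf : ∀ μ, f μ ≤ C * (μ + 1) ^ (m - 1))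
    {ν a : ℕ} (hν : 0 < ν) (h : ∀ μ : ℕ, 1 ≤ μ → μ ^ m ≤ a * f (ν * μ)) : False := by
  obtain ⟨e, rfl⟩ : ∃ e, m = e + 1 := ⟨m - 1, by omega⟩
  have h1 := (h (a * C * (2 * ν) ^ e + 1) (by omega)).trans (Nat.mul_le_mul_left a (hf _))
  rw [Nat.add_sub_cancel] at h1
  have h2 : (ν * (a * C * (2 * ν) ^ e + 1) + 1) ^ e ≤ (2 * ν) ^ e * (a * C * (2 * ν) ^ e + 1) ^ e := by
    rw [← mul_pow]
    refine Nat.pow_le_pow_left ?_ e
    have : 1 ≤ ν * (a * C * (2 * ν) ^ e + 1) := Nat.mul_pos hν (Nat.succ_pos _)
    rw [show 2 * ν * (a * C * (2 * ν) ^ e + 1) = 2 * (ν * (a * C * (2 * ν) ^ e + 1)) by ring]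
    generalize ν * (a * C * (2 * ν) ^ e + 1) = q at this ⊢
    omega
  have h3 := h1.trans (Nat.mul_le_mul_left a (Nat.mul_le_mul_left C h2))
  rw [pow_succ', ← mul_assoc, ← mul_assoc] at h3
  exact absurd (Nat.le_of_mul_le_mul_right h3 (pow_pos (Nat.succ_pos _) e)) (Nat.not_succ_le_self _)

end Groth.L02.NumDim
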