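import Groth.Agent.L02.NumDim.Vanish
import Groth.Agent.L22.Nef.Proper
import Groth.Agent.L18.ProjSpaceUP
import Groth.Agent.L22.VeryAmple.Immersion
import Groth.Agent.L11.NumOrth.NefBC

/-!
A globally generated module with `L^m ≠ 0` on some subvariety grows like `μ^m`.
-/

set_option autoImplicit false
set_option backward.isDefEq.respectTransparency false
set_option backward.isDefEq.respectTransparency.types false
set_option linter.style.haveILetI false
set_option linter.unusedSectionVars false

universe u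

open CategoryTheory CategoryTheory.Limits AlgebraicGeometry TopologicalSpace

noncomputable section

namespace Groth.L02.NumDim

open Groth.L22.Inter Groth.L22.Nef Groth.L22.Big Groth.L03.Euler Groth.L16
open Groth.L18.GenLoc (secOf)
open Groth.L18.Frame (pull rs)
open Groth.L00.Tensor (tensorIso tensorAssoc tensorComm tensorUnitRight tensorUnitLeft)

variable {k : Type u} [Field k]

/-- The scheme-theoretic image of an integral proper scheme, with the factorisation. -/
theorem exists_image {X P : Scheme.{u}} [X.Over (Spec (CommRingCat.of k))] [IsProper (X ↘ Spec (CommRingCat.of k))]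
    [P.Over (Spec (CommRingCat.of k))] [IsProper (P ↘ Spec (CommRingCat.of k))] [IsIntegral X] (f : X ⟶ P)
    (hf : f ≫ (P ↘ Spec (CommRingCat.of k)) = X ↘ Spec (CommRingCat.of k)) :
    ∃ (W : Scheme.{u}) (j : W ⟶ P) (_ : IsClosedImmersion j) (_ : IsIntegral W) (g : X ⟶ W),
      g ≫ j = f ∧ g (genericPoint X) = genericPoint W := by
  haveI := Groth.L21.RR.isNoetherian_of_proper (X := P) k
  let y := f (genericPoint X)
  haveI := isIntegral_pt y
  have hrange : Set.range f ⊆ closure {y} := by
    rintro _ ⟨w, rfl⟩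
    exact specializes_iff_mem_closure.1 (((genericPoint_spec X).specializes trivial).map f.continuous)
  have hle : (pt y).subschemeι.ker ≤ f.ker := by
    rw [Scheme.IdealSheafData.ker_subschemeι]
    exact Groth.L18.vanishingIdeal_le_ker f _ hrange
  refine ⟨(pt y).subscheme, (pt y).subschemeι, inferInstance, inferInstance,
    IsClosedImmersion.lift (pt y).subschemeι f hle, IsClosedImmersion.lift_fac _ _ _, ?_⟩
  apply (pt y).subschemeι.isClosedEmbedding.injective
  rw [← Scheme.Hom.comp_apply, IsClosedImmersion.lift_fac, genericPoint_pt]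

/-- A subvariety on which a pullback from something small is considered has zero intersection number. -/
theorem altT_pullback_eq_zero {Z Y : Scheme.{u}} [Z.Over (Spec (CommRingCat.of k))]
    [IsProper (Z ↘ Spec (CommRingCat.of k))] [Y.Over (Spec (CommRingCat.of k))]
    [IsProper (Y ↘ Spec (CommRingCat.of k))] [IsIntegral Z] (g : Z ⟶ Y)
    (hg : g ≫ (Y ↘ Spec (CommRingCat.of k)) = Z ↘ Spec (CommRingCat.of k)) {G : Y.Modules}
    (hG : PicF.IsInvertible G) {d : ℕ} (hd : topologicalKrullDim Z = d)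
    (hY : topologicalKrullDim Y + 1 ≤ (d : WithBot ℕ∞)) :
    altT k (fun _ : Fin d => (Scheme.Modules.pullback g).obj G) (Coh.structureModule Z) = 0 := by
  obtain ⟨W, j, hj, hW, g', hgj, hgen⟩ := exists_image g hg
  haveI := hj; haveI := hW
  letI : W.Over (Spec (CommRingCat.of k)) := ⟨j ≫ Y ↘ Spec (CommRingCat.of k)⟩
  haveI : IsProper (W ↘ Spec (CommRingCat.of k)) :=
    inferInstanceAs (IsProper (j ≫ Y ↘ Spec (CommRingCat.of k)))
  haveI := Groth.L21.RR.isNoetherian_of_proper (X := W) k
  have hg' : g' ≫ (W ↘ Spec (CommRingCat.of k)) = Z ↘ Spec (CommRingCat.of k) := by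
    show g' ≫ j ≫ _ = _
    rw [← Category.assoc, hgj, hg]
  haveI : IsProper (g' ≫ (W ↘ Spec (CommRingCat.of k))) := by rw [hg']; infer_instance
  haveI : IsProper g' := IsProper.of_comp g' (W ↘ Spec (CommRingCat.of k))
  rw [altT_congr k (L' := fun _ : Fin d => (Scheme.Modules.pullback g').obj ((Scheme.Modules.pullback j).obj G))
      fun _ => ⟨(Scheme.Modules.pullbackCongr hgj).symm.app G ≪≫ ((Scheme.Modules.pullbackComp g' j).app G).symm⟩,
    altT_pullback k g' hg' hgen hd fun _ => Groth.L18.Ample.isInvertible_pullback j hG,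
    altT_eq_zero k (fun _ => Groth.L18.Ample.isInvertible_pullback j hG) (CohClosedPush.isCoh_structure (X := W))
      (le_trans (add_le_add_left ((Groth.L22.Nakai.dim_support_structure W).le.trans
        j.isClosedEmbedding.topologicalKrullDim_le) 1) hY), mul_zero]

/-- Pullback along a dominant morphism is injective on sections of invertible modules. -/
theorem h0_le_pullback {X Y : Scheme.{u}} [X.Over (Spec (CommRingCat.of k))] [IsProper (X ↘ Spec (CommRingCat.of k))]
    [Y.Over (Spec (CommRingCat.of k))] [IsProper (Y ↘ Spec (CommRingCat.of k))] [IsIntegral X] [IsIntegral Y]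
    (g : X ⟶ Y) (hg : g ≫ (Y ↘ Spec (CommRingCat.of k)) = X ↘ Spec (CommRingCat.of k))
    (hgen : g (genericPoint X) = genericPoint Y) {G : Y.Modules} (hG : PicF.IsInvertible G) :
    h0 k G ≤ h0 k ((Scheme.Modules.pullback g).obj G) := by
  haveI := Groth.L21.RR.isNoetherian_of_proper (X := X) k
  have hGX := Groth.L18.Ample.isInvertible_pullback g hG
  have hc : ∀ c : k, g.appTop.hom (Coh.toGlobal (Y ↘ Spec (CommRingCat.of k)) c) =
      Coh.toGlobal (X ↘ Spec (CommRingCat.of k)) c := fun c => by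
    rw [← hg]
    simp [Coh.toGlobal, Scheme.Hom.comp_appTop]
    rfl
  let P : Γ(G, ⊤) →+ Γ((Scheme.Modules.pullback g).obj G, ⊤) :=
    (((Scheme.Modules.pullbackPushforwardAdjunction g).unit.app G).app ⊤).hom
  have hP : ∀ s, P s = pull g G ⊤ s := fun s => rfl
  let T : Coh.HH Y G 0 →ₗ[k] Coh.HH X ((Scheme.Modules.pullback g).obj G) 0 :=
    { toFun := fun x => (Groth.L21.RR.e0 _).symm (P (Groth.L21.RR.e0 G x))
      map_add' := fun a b => by rw [map_add, map_add, map_add]
      map_smul' := fun c a => (Groth.L21.RR.e0 _).injective <| by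
        rw [RingHom.id_apply, Groth.L21.RR.e0_smul k ((Scheme.Modules.pullback g).obj G) c]
        erw [AddEquiv.apply_symm_apply, AddEquiv.apply_symm_apply]
        rw [Groth.L21.RR.e0_smul k G c, hP, hP]
        refine (Groth.L18.Frame.pull_smul g G (V := ⊤) _ _).trans ?_
        exact congrArg (fun r => r • pull g G ⊤ (Groth.L21.RR.e0 G a)) (hc c) }
  haveI := ProperFinite.finite_HH k (Groth.L18.Ample.isCoh_of_isInvertible hGX) 0
  rw [h0_def, h0_def]
  refine LinearMap.finrank_le_finrank_of_injective (f := T) ((injective_iff_map_eq_zero T).2 fun x hx => ?_)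
  by_contra hne
  have hs : Groth.L16.homOfSection G (Groth.L21.RR.e0 G x) ≠ 0 := fun h => hne ((Groth.L21.RR.e0 G).injective (by
    rw [map_zero, ← Groth.L21.RR.app_homOfSection_one (Groth.L21.RR.e0 G x), h]; rfl))
  have hmem : genericPoint X ∈ CohB1.genLocus _
      (Groth.L18.Ample.pullHom g (Groth.L16.homOfSection G (Groth.L21.RR.e0 G x))) := by
    rw [Groth.L18.Ample.genLocus_pullHom g hG]
    show g (genericPoint X) ∈ CohB1.genLocus _ _
    rw [hgen]
    exact Groth.L22.CurveAmple.genericPoint_mem_genLocus hG hs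
  have h0 : P (Groth.L21.RR.e0 G x) = 0 := by
    have := congrArg (Groth.L21.RR.e0 _) hx
    rwa [map_zero, show T x = (Groth.L21.RR.e0 _).symm (P (Groth.L21.RR.e0 G x)) from rfl,
      AddEquiv.apply_symm_apply] at this
  rw [Groth.L18.Ample.pullHom, Groth.L18.GenLoc.secOf_homOfSection, show pull g G ⊤ (Groth.L21.RR.e0 G x) = 0 from h0] at hmem
  have hb := bijective_stalk_section _ hmem
  have hz : Groth.L16.homOfSection ((Scheme.Modules.pullback g).obj G) (0 : Γ((Scheme.Modules.pullback g).obj G, ⊤)) = 0 :=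
    Groth.L21.RR.eq_zero_of_st_one _ fun y => by
      rw [Groth.L21.RR.st_one _ y (W := ⊤) trivial, Groth.L21.RR.app_homOfSection_one,
        Groth.L18.Frame.rs_self, map_zero]
  erw [hz, Functor.map_zero] at hb
  have hlen := (CohSupport.len_eq_zero_iff (genericPoint X) (Coh.structureModule X)).not.1
    (by rw [Groth.L22.Nakai.len_structure']; exact one_ne_zero)
  exact hlen fun hsub => hsub ⟨fun a b => hb.1 rfl⟩

variable (k) {X : Scheme.{u}} [X.Over (Spec (CommRingCat.of k))] [IsProper (X ↘ Spec (CommRingCat.of k))]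
  [IsIntegral X]

include k in
/-- A globally generated module gives a morphism to projective space. -/
theorem exists_morphism {M : X.Modules} (hM : PicF.IsInvertible M) (hgg : Curv2.IsGloballyGenerated M) :
    ∃ (N : ℕ) (φ : X ⟶ CohB1.ProjSpace N k), φ ≫ CohB1.ProjSpace.toSpec N k = (X ↘ Spec (CommRingCat.of k)) ∧
      Nonempty ((Scheme.Modules.pullback φ).obj (Groth.L18.PUP.O1 N k) ≅ M) := by
  classical
  haveI : CompactSpace X := QuasiCompact.compactSpace_of_compactSpace (X ↘ Spec (CommRingCat.of k))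
  choose s hs using fun x : X => Groth.L18.Ample.exists_genLocus_mem_of_gg hM hgg x
  obtain ⟨T, hT⟩ := isCompact_univ.elim_finite_subcover (fun x : X => (CohB1.genLocus M (s x) : Set X))
    (fun x => (CohB1.genLocus M (s x)).2) fun x _ => Set.mem_iUnion.2 ⟨x, hs x⟩
  have hne : 0 < T.card := Finset.card_pos.2 (by
    obtain ⟨x, hx, -⟩ := Set.mem_iUnion₂.1 (hT (Set.mem_univ (genericPoint X)))
    exact ⟨x, hx⟩)
  obtain ⟨N, hN⟩ : ∃ N, T.card = N + 1 := ⟨T.card - 1, by omega⟩
  let e : T ≃ Fin (N + 1) := T.equivFin.trans (finCongr hN)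
  let t : Fin (N + 1) → Γ(M, ⊤) := fun i => secOf (s (e.symm i).1)
  have hgen : ProjUP.GeneratedBy M t := fun x => by
    obtain ⟨y, hy, hxy⟩ := Set.mem_iUnion₂.1 (hT (Set.mem_univ x))
    have hb := bijective_toSpanSingleton_germ (Groth.L18.GenLoc.isFrame_genLocus (s y)) hxy
    rw [Groth.L20.ModStalk.germ_rs] at hb
    refine eq_top_iff.2 fun v _ => ?_
    obtain ⟨a, ha⟩ := hb.2 v
    rw [← ha]
    refine Submodule.smul_mem _ a (Submodule.subset_span ⟨e ⟨y, hy⟩, ?_⟩)
    simp only [t, Equiv.symm_apply_apply]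
  obtain ⟨φ, hφ, τ, -⟩ := Groth.L18.PUP.exists_hom (X ↘ Spec (CommRingCat.of k)) M hM t hgen
  exact ⟨N, φ, hφ, ⟨τ⟩⟩

/-- Globally generated with nonzero `m`-th power somewhere: growth `μ^m`. -/
theorem exists_growth_gg {M : X.Modules} (hM : PicF.IsInvertible M) (hgg : Curv2.IsGloballyGenerated M) {m : ℕ}
    {y : X} (hy : topologicalKrullDim (closure ({y} : Set X)) = (m : ℕ))
    (hne : altT k (fun _ : Fin m => M) (ClSub.quotMod (pt y)) ≠ 0) :
    ∃ C : ℚ, 0 < C ∧ ∃ q₀ : ℕ, ∀ q : ℕ, q₀ ≤ q → C * (q : ℚ) ^ m ≤ (h0 k (CohB1.tensorPow M q) : ℚ) := by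
  haveI := Groth.L21.RR.isNoetherian_of_proper (X := X) k
  obtain ⟨N, φ, hφ, ⟨τ⟩⟩ := exists_morphism k hM hgg
  letI : (CohB1.ProjSpace N k).Over (Spec (CommRingCat.of k)) := ⟨CohB1.ProjSpace.toSpec N k⟩
  haveI : IsProper ((CohB1.ProjSpace N k) ↘ Spec (CommRingCat.of k)) :=
    inferInstanceAs (IsProper (CohB1.ProjSpace.toSpec N k))
  obtain ⟨Y, j, hj, hY, g, hgj, hgen⟩ := exists_image φ hφ
  haveI := hj; haveI := hY
  letI : Y.Over (Spec (CommRingCat.of k)) := ⟨j ≫ CohB1.ProjSpace.toSpec N k⟩
  haveI : IsProper (Y ↘ Spec (CommRingCat.of k)) :=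
    inferInstanceAs (IsProper (j ≫ CohB1.ProjSpace.toSpec N k))
  haveI := Groth.L21.RR.isNoetherian_of_proper (X := Y) k
  have hg : g ≫ (Y ↘ Spec (CommRingCat.of k)) = X ↘ Spec (CommRingCat.of k) := by
    show g ≫ j ≫ _ = _
    rw [← Category.assoc, hgj, hφ]
  let G := (Scheme.Modules.pullback j).obj (Groth.L18.PUP.O1 N k)
  have hG : CohB1.IsAmple G :=
    Groth.L18.Ample.isAmple_pullback_of_isAffineHom j (Groth.L22.VeryAmple.isAmple_O1 N k)
  let eM : (Scheme.Modules.pullback g).obj G ≅ M :=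
    (Scheme.Modules.pullbackComp g j).app _ ≪≫ (Scheme.Modules.pullbackCongr hgj).app _ ≪≫ τ
  obtain ⟨D, hD, -⟩ := Groth.L11.NumOrth.exists_nat_dim_le k k (X := Y)
  obtain ⟨e, he⟩ : ∃ e : ℕ, topologicalKrullDim Y = (e : ℕ) := by
    have h0 := zero_le_topologicalKrullDim (S := (Set.univ : Set Y)) ⟨genericPoint Y, trivial⟩
    rw [IsHomeomorph.topologicalKrullDim_eq _ (Homeomorph.Set.univ Y).isHomeomorph] at h0
    generalize topologicalKrullDim Y = t at hD h0
    induction t using WithBot.recBotCoe with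
    | bot => simp at h0
    | coe t =>
      induction t using ENat.recTopCoe with
      | top => exact absurd (WithBot.coe_le_coe.1 hD) (not_le.2 (ENat.natCast_lt_top _))
      | coe t => exact ⟨t, rfl⟩
  have hme : m ≤ e := by
    by_contra hlt
    haveI := isIntegral_pt y
    let i := (pt y).subschemeι
    letI : (pt y).subscheme.Over (Spec (CommRingCat.of k)) := ⟨i ≫ (X ↘ Spec (CommRingCat.of k))⟩
    haveI : IsProper ((pt y).subscheme ↘ Spec (CommRingCat.of k)) :=
      inferInstanceAs (IsProper (i ≫ (X ↘ Spec (CommRingCat.of k))))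
    have hdZ : topologicalKrullDim (pt y).subscheme = (m : ℕ) := by rw [← dim_closure_image i, genericPoint_pt, hy]
    have h1 := altT_pullback_eq_zero (i ≫ g) (by rw [Category.assoc, hg]; rfl) hG.1 hdZ
      (by rw [he]; exact_mod_cast (show e + 1 ≤ m by omega))
    rw [altT_congr k (L' := fun _ : Fin m => (Scheme.Modules.pullback i).obj M)
      (fun _ => ⟨((Scheme.Modules.pullbackComp i g).app G).symm ≪≫ (Scheme.Modules.pullback i).mapIso eM⟩),
      altT_push_eq k i rfl hdZ (L := fun _ : Fin m => M) fun _ => hM, genericPoint_pt] at h1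
    exact hne h1
  have hpos := div_pos (altT_ample_pos k hG he) (show (0 : ℚ) < e.factorial by positivity)
  set C := altT k (fun _ : Fin e => G) (Coh.structureModule Y) / e.factorial / 2 with hC
  obtain ⟨q₀, hq₀⟩ := exists_le_h0 k hG (Groth.L18.Ample.isInvertible_structureModule Y) he.le (t := C)
    (by rw [hC]; linarith)
  refine ⟨C, by rw [hC]; linarith, q₀ + 1, fun q hq => ?_⟩
  have h1 := hq₀ q (by omega)
  rw [h0_iso k (tensorUnitLeft (CohB1.tensorPow G q))] at h1
  have h2 := (h0_le_pullback g hg hgen (Groth.L18.Ample.isInvertible_tensorPow hG.1 q)).trans_eq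
    (h0_iso k (Groth.L18.Ample.pullPow g G q ≪≫ Groth.L00.Tensor.tensorPowIso eM q))
  refine le_trans (le_trans ?_ h1) (by exact_mod_cast h2)
  exact mul_le_mul_of_nonneg_left (pow_le_pow_right₀ (by exact_mod_cast (by omega : 1 ≤ q)) hme) (by rw [hC]; linarith)

end Groth.L02.NumDim
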