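import Groth.Agent.L22.Big.Volume
import Groth.Agent.L22.Inter.Mixed
import Groth.Agent.L16.Exist.PropSupp

/-!
If `c₁(L)^m` is numerically trivial for a nef `L` then `h⁰(L^μ) = O(μ^(m-1))`.
-/

set_option autoImplicit false
set_option backward.isDefEq.respectTransparency false
set_option linter.style.haveILetI false
set_option linter.unusedSectionVars false

universe u

open CategoryTheory CategoryTheory.Limits AlgebraicGeometry TopologicalSpace

noncomputable section

namespace Groth.L02.NumDim

open Groth.L22.Inter Groth.L22.Nef Groth.L22.Big Groth.L03.Euler Groth.L16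
open Groth.L00.Tensor (tensorIso tensorAssoc tensorComm tensorUnitRight tensorUnitLeft)

variable (k : Type u) [Field k] {X : Scheme.{u}} [X.Over (Spec (CommRingCat.of k))]
  [IsProper (X ↘ Spec (CommRingCat.of k))] {A L : X.Modules}

/-- The `r`-th power of the class is zero on everything of dimension `r ≥ m`. -/
theorem altT_const_eq_zero (hA : CohB1.IsAmple A) (hL : IsNef k L) {m : ℕ}
    (hz : ∀ y : X, topologicalKrullDim (closure ({y} : Set X)) = (m : ℕ) →
      altT k (fun _ : Fin m => L) (ClSub.quotMod (pt y)) = 0) {r : ℕ} (hr : m ≤ r) :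
    ∀ F : X.Modules, Coh.IsCoh F → topologicalKrullDim (CohB1.support F) ≤ r →
      altT k (fun _ : Fin r => L) F = 0 := by
  haveI := Groth.L21.RR.isNoetherian_of_proper (X := X) k
  have reduce : ∀ s : ℕ, (∀ y : X, topologicalKrullDim (closure ({y} : Set X)) = (s : ℕ) →
      altT k (fun _ : Fin s => L) (ClSub.quotMod (pt y)) = 0) →
      ∀ F : X.Modules, Coh.IsCoh F → topologicalKrullDim (CohB1.support F) ≤ s →
        altT k (fun _ : Fin s => L) F = 0 := fun s hs F hF hd => by
    have hT := CohSupport.isClosed_support F hF.2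
    have hS : ∀ x, x ∈ (finite_top hT hd).toFinset ↔ x ∈ CohB1.support F ∧
        topologicalKrullDim (closure ({x} : Set X)) = (s : WithBot ℕ∞) := fun x => Set.Finite.mem_toFinset _
    rw [altT_eq_sum k (fun _ => hL.1) hT hd _ hS (fun y => ClSub.quotMod (pt y)) (fun y _ => pt_facts y) hF subset_rfl]
    exact Finset.sum_eq_zero fun y hy => by rw [hs y ((hS y).1 hy).2, mul_zero]
  induction r, hr using Nat.le_induction with
  | base => exact reduce m hz
  | succ r hr ih =>
    refine reduce (r + 1) fun y hy => ?_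
    have hP : CohB1.IsAmple (CohB1.tensorMod A L) := isAmple_tensor hA hL
    have hzero : ∀ B : X.Modules, CohB1.IsAmple B →
        altT k (Fin.cons B fun _ : Fin r => L) (ClSub.quotMod (pt y)) = 0 := fun B hB => by
      obtain ⟨N, Q, hN, hQ, hQd, hQe⟩ := exists_drop k hy hB
      have h := hQe (fun _ => L) fun _ => hL.1
      rw [ih Q hQ hQd.le] at h
      exact (mul_eq_zero.1 h.symm).resolve_left (Nat.cast_ne_zero.2 hN.ne')
    have hadd := altT_add k (L := fun _ : Fin r => L) (fun _ => hL.1) hA.1 hL.1 (pt_facts y).1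
      ((topologicalKrullDim_set_mono (pt_facts y).2.1).trans hy.le)
    rw [hzero _ hP, hzero A hA, zero_add] at hadd
    rw [show (fun _ : Fin (r + 1) => L) = Fin.cons L (fun _ : Fin r => L) from (Fin.cons_self_tail _).symm]
    exact hadd.symm

/-- The growth bound. -/
theorem exists_h0_le_numTrivial (hA : CohB1.IsAmple A) (hL : IsNef k L) {m : ℕ} (hm : 1 ≤ m)
    (hz : ∀ y : X, topologicalKrullDim (closure ({y} : Set X)) = (m : ℕ) →
      altT k (fun _ : Fin m => L) (ClSub.quotMod (pt y)) = 0) (d : ℕ) :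
    ∀ F : X.Modules, Coh.IsCoh F → topologicalKrullDim (CohB1.support F) ≤ d →
      ∃ C : ℕ, ∀ μ : ℕ, h0 k (CohB1.tensorMod F (CohB1.tensorPow L μ)) ≤ C * (μ + 1) ^ (m - 1) := by
  classical
  haveI := Groth.L21.RR.isNoetherian_of_proper (X := X) k
  haveI : X.IsSeparated := ⟨by rw [← terminal.comp_from (X ↘ Spec (CommRingCat.of k))]; infer_instance⟩
  have small : ∀ F : X.Modules, Coh.IsCoh F → topologicalKrullDim (CohB1.support F) ≤ ((m - 1 : ℕ) : ℕ) →
      ∃ C : ℕ, ∀ μ : ℕ, h0 k (CohB1.tensorMod F (CohB1.tensorPow L μ)) ≤ C * (μ + 1) ^ (m - 1) := by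
    intro F hF hd'
    obtain ⟨C, hC⟩ := exists_h0_le k hA (L := ![L]) (Fin.forall_fin_one.2 hL.1) hF hd'
    refine ⟨C, fun μ => ?_⟩
    rw [← h0_iso k (tensorIso (Iso.refl F) (show Curv2.tensorPows (Coh.structureModule X) 1 ![L] ![μ] ≅
      CohB1.tensorPow L μ from tensorUnitLeft _))]
    simpa using hC ![μ]
  induction d with
  | zero => exact fun F hF hd => small F hF (hd.trans (by exact_mod_cast Nat.zero_le _))
  | succ d ih =>
    intro F hF hd
    obtain ⟨Z₀, i₀, M₀, hi₀, hM₀, ⟨e₀⟩, hdim₀⟩ := exists_push_support k hF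
    haveI := hi₀
    letI : Z₀.Over (Spec (CommRingCat.of k)) := ⟨i₀ ≫ X ↘ Spec (CommRingCat.of k)⟩
    haveI : IsProper (Z₀ ↘ Spec (CommRingCat.of k)) :=
      inferInstanceAs (IsProper (i₀ ≫ X ↘ Spec (CommRingCat.of k)))
    haveI := Groth.L21.RR.isNoetherian_of_proper (X := Z₀) k
    haveI : Z₀.IsSeparated := ⟨by rw [← terminal.comp_from (Z₀ ↘ Spec (CommRingCat.of k))]; infer_instance⟩
    have hd₀ : topologicalKrullDim Z₀ ≤ (d + 1 : ℕ) := hdim₀.trans_le hd
    have hL₀ := fun μ => Groth.L18.Ample.isInvertible_pullback i₀ (Groth.L18.Ample.isInvertible_tensorPow hL.1 μ)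
    suffices ∀ M : Z₀.Modules, Coh.IsCoh M → ∃ C : ℕ, ∀ μ : ℕ,
        h0 k (CohB1.tensorMod M ((Scheme.Modules.pullback i₀).obj (CohB1.tensorPow L μ))) ≤ C * (μ + 1) ^ (m - 1) by
      obtain ⟨C, hC⟩ := this M₀ hM₀
      refine ⟨C, fun μ => ?_⟩
      rw [← h0_iso k (tensorIso e₀ (Iso.refl _)), h0_def,
        finrank_push k i₀ rfl (Groth.L18.Ample.isInvertible_tensorPow hL.1 μ) M₀ hM₀.1, ← h0_def]
      exact hC μ
    intro M hM
    refine Devissage.devissage_ideals (P := fun M : Z₀.Modules => ∃ C : ℕ, ∀ μ : ℕ,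
      h0 k (CohB1.tensorMod M ((Scheme.Modules.pullback i₀).obj (CohB1.tensorPow L μ))) ≤ C * (μ + 1) ^ (m - 1))
      (fun M N e ⟨C, hC⟩ => ⟨C, fun μ => (h0_iso k (tensorIso e.some.symm (Iso.refl _))).trans_le (hC μ)⟩)
      (fun M h => ⟨0, fun μ => ?_⟩)
      (fun S hS c₁ c₂ c₃ ⟨C₁, h₁⟩ ⟨C₃, h₃⟩ => ⟨C₁ + C₃, fun μ => ?_⟩) (fun Z j hj hZ I ι₀ hι hI => ?_) hM
    · haveI : Subsingleton (Coh.HH Z₀ (CohB1.tensorMod M ((Scheme.Modules.pullback i₀).obj (CohB1.tensorPow L μ))) 0) :=
        Groth.L03.Euler.subsingleton_HH_of_isZero ((Groth.L00.Tensor.tensorRightF ((Scheme.Modules.pullback i₀).obj (CohB1.tensorPow L μ))).map_isZero h) 0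
      rw [h0_def]
      exact le_of_eq_of_le (Module.finrank_zero_of_subsingleton (R := k) (M := Coh.HH Z₀ (CohB1.tensorMod M ((Scheme.Modules.pullback i₀).obj (CohB1.tensorPow L μ))) 0)) (Nat.zero_le _)
    · rw [Nat.add_mul]
      exact (h0_le_add k (shortExact_tensor (hL₀ μ) hS) (isCoh_tensor (hL₀ μ) c₁) (isCoh_tensor (hL₀ μ) c₂)
        (isCoh_tensor (hL₀ μ) c₃)).trans (Nat.add_le_add (h₁ μ) (h₃ μ))
    · haveI := hj; haveI := hZ; haveI := hι; haveI := hI
      let i : Z ⟶ X := j ≫ i₀
      letI : Z.Over (Spec (CommRingCat.of k)) := ⟨i ≫ X ↘ Spec (CommRingCat.of k)⟩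
      haveI : IsProper (Z ↘ Spec (CommRingCat.of k)) :=
        inferInstanceAs (IsProper (i ≫ X ↘ Spec (CommRingCat.of k)))
      haveI := Groth.L21.RR.isNoetherian_of_proper (X := Z) k
      have hOZ := CohClosedPush.isCoh_structure (X := Z)
      have hOc : Coh.IsCoh ((Coh.push i).obj (Coh.structureModule Z)) := CohClosedPush.isCoh_push i hOZ
      have hG : ∀ μ, PicF.IsInvertible ((Scheme.Modules.pullback i).obj (CohB1.tensorPow L μ)) := fun μ =>
        Groth.L18.Ample.isInvertible_pullback i (Groth.L18.Ample.isInvertible_tensorPow hL.1 μ)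
      suffices ∃ C : ℕ, ∀ μ : ℕ, h0 k (CohB1.tensorMod ((Coh.push i).obj (Coh.structureModule Z)) (CohB1.tensorPow L μ)) ≤
          C * (μ + 1) ^ (m - 1) by
        obtain ⟨C, hC⟩ := this
        refine ⟨C, fun μ => ?_⟩
        have h := hC μ
        rw [h0_def, finrank_push k i rfl (Groth.L18.Ample.isInvertible_tensorPow hL.1 μ) _ hOZ.1, ← h0_def] at h
        rw [h0_def, finrank_push k j (by show j ≫ i₀ ≫ _ = i ≫ _; simp only [i, Category.assoc]) (hL₀ μ) I hI,
          ← h0_def]
        refine le_of_eq_of_le (h0_iso k (tensorIso (Iso.refl I) ((Scheme.Modules.pullbackComp j i₀).app (CohB1.tensorPow L μ)))) ?_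
        haveI : Mono ((Groth.L00.Tensor.tensorRightF ((Scheme.Modules.pullback i).obj (CohB1.tensorPow L μ))).map ι₀) :=
          (shortExact_tensor (hG μ) (S := ShortComplex.mk ι₀ (cokernel.π ι₀) (cokernel.condition ι₀))
            { exact := ShortComplex.exact_cokernel ι₀ }).mono_f
        exact (h0_le_of_mono k ((Groth.L00.Tensor.tensorRightF
          ((Scheme.Modules.pullback i).obj (CohB1.tensorPow L μ))).map ι₀) (isCoh_tensor (hG μ) hOZ)).trans h
      have hiy : Set.range i = closure {i (genericPoint Z)} := range_eq_closure i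
      have hyd : topologicalKrullDim (closure ({i (genericPoint Z)} : Set X)) ≤ (d + 1 : ℕ) := by
        rw [dim_closure_image i]
        exact j.isClosedEmbedding.topologicalKrullDim_le.trans hd₀
      generalize hgen : i (genericPoint Z) = y at hyd hiy
      have hsO : CohB1.support ((Coh.push i).obj (Coh.structureModule Z)) ⊆ closure {y} :=
        (CohClosedPush.support_push_subset i _).trans hiy.le
      obtain ⟨e, hed, hye⟩ : ∃ e : ℕ, e ≤ d + 1 ∧ topologicalKrullDim (closure ({y} : Set X)) = (e : ℕ) := by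
        have h0 := zero_le_topologicalKrullDim (S := closure ({y} : Set X)) ⟨y, subset_closure rfl⟩
        generalize topologicalKrullDim (closure ({y} : Set X)) = t at hyd h0
        induction t using WithBot.recBotCoe with
        | bot => simp at h0
        | coe t =>
          induction t using ENat.recTopCoe with
          | top => exact absurd (WithBot.coe_le_coe.1 hyd) (not_le.2 (ENat.natCast_lt_top _))
          | coe t => exact ⟨t, by exact_mod_cast hyd, rfl⟩
      rcases Nat.lt_or_ge d e with hde | hde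
      swap
      · exact ih _ hOc ((topologicalKrullDim_set_mono hsO).trans (hye.le.trans (by exact_mod_cast hde)))
      rcases Nat.lt_or_ge e m with hem | hem
      · exact small _ hOc ((topologicalKrullDim_set_mono hsO).trans (hye.le.trans (by exact_mod_cast (show e ≤ m - 1 by omega))))
      have he : e = d + 1 := by omega
      subst he
      have hdZ : topologicalKrullDim Z = (d + 1 : ℕ) := by rw [← dim_closure_image i, hgen, hye]
      have hLZ : IsNef k ((Scheme.Modules.pullback i).obj L) := hL.pullback i rfl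
      have hAZ : CohB1.IsAmple ((Scheme.Modules.pullback i).obj A) := Groth.L18.Ample.isAmple_pullback_of_isAffineHom i hA
      have htop : altT k (fun _ : Fin (d + 1) => (Scheme.Modules.pullback i).obj L) (Coh.structureModule Z) = 0 := by
        rw [altT_push_eq k i rfl hdZ (L := fun _ : Fin (d + 1) => L) fun _ => hL.1, hgen]
        exact altT_const_eq_zero k hA hL hz hem _ (pt_facts y).1 ((topologicalKrullDim_set_mono (pt_facts y).2.1).trans hye.le)
      obtain ⟨c, -, hB, s, hs⟩ := exists_section_pow k hAZ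
      let B := CohB1.tensorPow ((Scheme.Modules.pullback i).obj A) c
      obtain ⟨B', hB', ⟨ι⟩⟩ := Groth.L08.Cube.exists_inverse hB.1
      obtain ⟨S, hS, h1, h2, hQ, hη⟩ := exists_section_seq k hB.1 s hs
      have hQd := dim_le_of_generic_notMem (CohSupport.isClosed_support _ hQ.2) hη (n := d) hdZ.le
      have hQB : Coh.IsCoh (CohB1.tensorMod S.X₃ B') := isCoh_tensor hB' hQ
      obtain ⟨C, hC⟩ := ih ((Coh.push i).obj (CohB1.tensorMod S.X₃ B')) (CohClosedPush.isCoh_push i hQB) (by
        refine (topologicalKrullDim_set_mono ((Groth.L16.Exist.support_push_image i hQB).trans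
          (Set.image_mono (support_tensor hB' S.X₃).le))).trans ?_
        exact le_trans (i.isClosedEmbedding.isEmbedding.homeomorphImage _).symm.isHomeomorph.isInducing.topologicalKrullDim_le hQd)
      refine ⟨C, fun μ => ?_⟩
      have hLμ := Groth.L18.Ample.isInvertible_tensorPow hL.1 μ
      let G := (Scheme.Modules.pullback i).obj (CohB1.tensorPow L μ)
      have hG : PicF.IsInvertible G := Groth.L18.Ample.isInvertible_pullback i hLμ
      let eG : G ≅ CohB1.tensorPow ((Scheme.Modules.pullback i).obj L) μ :=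
        Groth.L18.Ample.pullPow i L μ
      have hBG : PicF.IsInvertible (CohB1.tensorMod B' G) := Groth.L18.GenLoc.isInvertible_tensor hB' hG
      have hvan : h0 k (CohB1.tensorMod B' G) = 0 := by
        by_contra hne
        obtain ⟨φ, hφ⟩ := exists_mono_of_section k hB.1 hLZ.1 (tensorComm B' B ≪≫ ι) (m := μ)
          (by rw [← h0_iso k (tensorIso (Iso.refl B') eG)]; exact Nat.pos_of_ne_zero hne)
        haveI := hφ
        exact absurd htop (altT_pos_of_mono k hB hLZ hdZ φ).ne'
      have key := h0_le_add k (shortExact_tensor hBG hS) (isCoh_tensor hBG (h1 ▸ hOZ))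
        (isCoh_tensor hBG (h2 ▸ Groth.L18.Ample.isCoh_of_isInvertible hB.1)) (isCoh_tensor hBG hQ)
      change h0 k (CohB1.tensorMod S.X₂ (CohB1.tensorMod B' G)) ≤
        h0 k (CohB1.tensorMod S.X₁ (CohB1.tensorMod B' G)) + h0 k (CohB1.tensorMod S.X₃ (CohB1.tensorMod B' G)) at key
      rw [h0_iso k (tensorIso (eqToIso h1) (Iso.refl _) ≪≫ tensorUnitLeft (CohB1.tensorMod B' G)), hvan, zero_add,
        h0_iso k (tensorIso (eqToIso h2) (Iso.refl (CohB1.tensorMod B' G)) ≪≫ (tensorAssoc _ _ _).symm ≪≫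
          tensorIso ι (Iso.refl G)), ← h0_iso k (tensorAssoc S.X₃ B' G)] at key
      rw [h0_def, finrank_push k i rfl hLμ _ hOZ.1, ← h0_def]
      refine key.trans ?_
      have := hC μ
      rwa [h0_def, finrank_push k i rfl hLμ _ hQB.1, ← h0_def] at this

end Groth.L02.NumDim
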